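import Groth.Agent.FibVA.Lift
import Groth.Agent.FibVA.Ratios
import Groth.Agent.ProjBundleLib.AmpleVA

/-!
# Frames near a fibre on which an invertible module is very ample and has no `H¹`
-/

set_option autoImplicit false

universe u

open CategoryTheory CategoryTheory.Limits AlgebraicGeometry TopologicalSpace Opposite

noncomputable section

namespace Groth.Agent.FibVA

open Groth.Agent.QCoh Groth.Agent.Props.GenLocus Groth.Agent.Props.GenPull Groth.Agent.AmpleLib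
open Groth.Agent.ProjMorph Groth.Agent.ProjBundleLib

/-- A mono through which a morphism factors is pulled back to the identity. -/
lemma isPullback_of_factor {A B C : Scheme.{u}} {a : A ⟶ B} {m : B ⟶ C} [Mono m] {p : A ⟶ C}
    (h : a ≫ m = p) : IsPullback a (𝟙 A) m p :=
  IsPullback.of_vert_isIso_mono ⟨by rw [h, Category.id_comp]⟩

lemma appLE_congr_hom {A B : Scheme.{u}} {a b : A ⟶ B} (h : a = b) {U : B.Opens} {V : A.Opens}
    (e : V ≤ a ⁻¹ᵁ U) (e' : V ≤ b ⁻¹ᵁ U) (x : Γ(B, U)) : a.appLE U V e x = b.appLE U V e' x := by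
  subst h; rfl

/-- The sections making a fibre a closed subscheme of projective space. -/
theorem exists_fibre_sections {X Y : Scheme.{u}} (f : X ⟶ Y) [IsProper f] {L : X.Modules} (y : Y)
    (hva : RelAmple.IsRelVeryAmplePn (f.fiberToSpecResidueField y)
      ((Scheme.Modules.pullback (f.fiberι y)).obj L)) :
    ∃ (n : ℕ) (j : f.fiber y ⟶ CohB1.ProjSpaceOver n (Spec (Y.residueField y)))
      (t : Fin (n + 1) → Γ((Scheme.Modules.pullback (f.fiberι y)).obj L, ⊤)),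
      IsClosedImmersion j ∧ j ≫ pullback.snd _ _ = f.fiberToSpecResidueField y ∧
      (∀ k, (j ≫ pullback.fst _ _) ⁻¹ᵁ Dk n k = locus (t k)) ∧
      ∀ k l, res _ (le_top : (j ≫ pullback.fst _ _) ⁻¹ᵁ Dk n k ≤ ⊤) (t l) =
        (j ≫ pullback.fst _ _).app _ (ratio (hX n k) (hX n l)) • res _ le_top (t k) := by
  obtain ⟨n, j, hj, hjq, ⟨e⟩⟩ := hva
  have : IsProper (f.fiberToSpecResidueField y) :=
    MorphismProperty.of_isPullback (IsPullback.of_hasPullback f (Y.fromSpecResidueField y)) ‹_›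
  have := TwistFlat.isProper_toBase n (Spec (Y.residueField y))
  have : IsProper (j ≫ CohB1.ProjSpaceOver.toBase n (Spec (Y.residueField y))) := by
    rw [show j ≫ CohB1.ProjSpaceOver.toBase n _ = f.fiberToSpecResidueField y from hjq]; infer_instance
  have : IsProper j := IsProper.of_comp _ (CohB1.ProjSpaceOver.toBase n _)
  have : IsClosedImmersion j := IsClosedImmersion.of_isPreimmersion _ j.isClosedMap.isClosed_range
  let r := j ≫ pullback.fst (CohB1.ProjSpace.toSpec n (ULift.{u} ℤ))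
    (specULiftZIsTerminal.from (Spec (Y.residueField y)))
  let M := Twist.twist (grℤ.{u} n) 1
  have hM : PicF.IsInvertible M :=
    isInvertible_twist_one (fun i => MvPolynomial.X i) (hX n) MvPolynomial.adjoin_range_X
  let eT : (Scheme.Modules.pullback (f.fiberι y)).obj L ≅ (Scheme.Modules.pullback r).obj M :=
    e ≪≫ (Scheme.Modules.pullbackComp j _).app M
  refine ⟨n, j, fun k => eT.inv.app ⊤ (ProjUP.pullSec r M (gsec (hX n k))), this, hjq,
    fun k => ?_, fun k l => ?_⟩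
  · refine Eq.trans ?_ (locus_app_iso eT.symm (O := ⊤) (ProjUP.pullSec r M (gsec (hX n k)))).symm
    change r ⁻¹ᵁ _ = locus (pb r (W := ⊤) (gsec (hX n k)))
    refine ((locus_pb r hM (O := ⊤) _).trans (congrArg (r ⁻¹ᵁ ·) ?_)).symm
    exact locus_gsec (fun i => MvPolynomial.X i) (hX n) MvPolynomial.adjoin_range_X (hX n k)
  · change res _ _ (eT.inv.app ⊤ _) = r.app _ _ • res _ _ (eT.inv.app ⊤ _)
    rw [← app_res, ← app_res]
    refine Eq.trans ?_ (Scheme.Modules.Hom.app_smul eT.inv _ _)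
    refine congrArg _ ((res_pullSec r (hX n k) (hX n l)).trans ?_)
    exact congrArg (_ • ·) (res_pullSec_self r (hX n k)).symm

variable {X Y : Scheme.{u}} (f : X ⟶ Y) [IsProper f] [Flat f] [LocallyOfFinitePresentation f]

/-- Near a point of the base with very ample fibre without `H¹`, sections of `L` over the preimage
of an affine neighbourhood have affine loci with full coefficient rings, and the loci cover. -/
theorem exists_frames {L : X.Modules} (hL : PicF.IsInvertible L) (y : Y)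
    (hva : RelAmple.IsRelVeryAmplePn (f.fiberToSpecResidueField y)
      ((Scheme.Modules.pullback (f.fiberι y)).obj L))
    (h1 : Subsingleton (Coh.HH (f.fiber y) ((Scheme.Modules.pullback (f.fiberι y)).obj L) 1)) :
    ∃ V : Y.Opens, y ∈ V ∧ IsAffineOpen V ∧ ∀ x, f x ∈ V →
      ∃ e : Γ((Scheme.Modules.pushforward f).obj L, V),
        x ∈ gLoc (𝟙 ((Scheme.Modules.pushforward f).obj L)) V e ∧
        IsAffineOpen (gLoc (𝟙 ((Scheme.Modules.pushforward f).obj L)) V e) ∧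
        coefRing (𝟙 ((Scheme.Modules.pushforward f).obj L)) V e
          (gLoc (𝟙 ((Scheme.Modules.pushforward f).obj L)) V e) = ⊤ := by
  obtain ⟨n, j, t, hj, hjq, hpre₀, hcoef₀⟩ := exists_fibre_sections f y hva
  obtain ⟨V₀, hy₀, σ, -, -, hσ⟩ := exists_lift f hL y h1 t (show y ∈ (⊤ : Y.Opens) from trivial)
  let π := f.fiberι y
  let r₀ := j ≫ pullback.fst (CohB1.ProjSpace.toSpec n (ULift.{u} ℤ))
    (specULiftZIsTerminal.from (Spec (Y.residueField y)))
  let W : Fin (n + 1) → X.Opens := fun k => locus (σ k)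
  have hWV₀ : ∀ k, W k ≤ f ⁻¹ᵁ V₀ := fun k => locus_le _
  have hex : ∀ k l, ∃ c : Γ(X, W k),
      res L (hWV₀ k) (σ l) = c • res L (hWV₀ k) (σ k) := fun k l => by
    obtain ⟨c, hc, -⟩ := (isGen_locus (σ k)).exists_eq le_rfl (res L (hWV₀ k) (σ l))
    exact ⟨c, by rwa [res_self] at hc⟩
  choose c hc using hex
  have hπ : (⊤ : (f.fiber y).Opens) ≤ π ⁻¹ᵁ (f ⁻¹ᵁ V₀) := le_fiberι_preimage f hy₀
  have hWπ : ∀ k, r₀ ⁻¹ᵁ Dk n k = π ⁻¹ᵁ W k := fun k => by
    rw [show r₀ ⁻¹ᵁ Dk n k = _ from hpre₀ k, ← hσ k, locus_unitSec π hL, inf_top_eq]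
  have hrat₀ : ∀ k l, r₀.appLE (Dk n k) (π ⁻¹ᵁ W k) (hWπ k).ge (ratio (hX n k) (hX n l)) =
      π.app (W k) (c k l) := fun k l =>
    ratio_eq π hπ (σ k) (σ l) (c k l) (hc k l) r₀ (hWπ k) _ (by
      rw [hσ, hσ]; exact hcoef₀ k l)
  -- shrink so that the loci cover
  let bad := f '' ((⨆ k, W k : X.Opens) : Set X)ᶜ
  have hbad : IsClosed bad := f.isClosedMap _ (⨆ k, W k).2.isClosed_compl
  have hyb : y ∉ bad := by
    rintro ⟨x, hx, hxy⟩
    obtain ⟨z, rfl⟩ : x ∈ Set.range π := f.range_fiberι y ▸ hxy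
    have hcov : ⊤ ≤ ⨆ k, r₀ ⁻¹ᵁ Dk n k := by
      rw [← r₀.preimage_iSup]
      exact (r₀.preimage_mono (iSup_basicOpen_gen (fun i => MvPolynomial.X i) (hX n)
        MvPolynomial.adjoin_range_X).ge)
    obtain ⟨k, hk⟩ := Opens.mem_iSup.mp (hcov (trivial : z ∈ (⊤ : (f.fiber y).Opens)))
    rw [hWπ k] at hk
    exact hx (Opens.mem_iSup.mpr ⟨k, hk⟩)
  let V₁ : Y.Opens := V₀ ⊓ ⟨badᶜ, hbad.isOpen_compl⟩
  have hy₁ : y ∈ V₁ := ⟨hy₀, hyb⟩
  have hcov₁ : ∀ x, f x ∈ V₁ → ∃ k, x ∈ W k := fun x hx =>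
    Opens.mem_iSup.mp (not_not.mp fun h => hx.2 ⟨x, h, rfl⟩)
  -- the morphism to projective space
  let X' : Scheme.{u} := (f ⁻¹ᵁ V₁).toScheme
  let ι : X' ⟶ X := (f ⁻¹ᵁ V₁).ι
  have hι : (⊤ : X'.Opens) ≤ ι ⁻¹ᵁ (f ⁻¹ᵁ V₀) := fun z _ => z.2.1
  let s' : Fin (n + 1) → ProjUP.Γm ((Scheme.Modules.pullback ι).obj L) := fun k =>
    LimTop.unitSec ι L hι (σ k)
  have hs' : ∀ k, locus (O := ⊤) (s' k) = ι ⁻¹ᵁ W k := fun k => by
    rw [locus_unitSec ι hL, inf_top_eq]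
  obtain ⟨i, hi, hpre, hcoef, -⟩ := exists_toProjSpaceOver (ι ≫ f)
    (PicCl.isInvertible_pullback ι hL) s' (generatedBy_of_cover s' fun z _ => by
      obtain ⟨k, hk⟩ := hcov₁ (ι z) z.2
      exact Opens.mem_iSup.mpr ⟨k, (hs' k).ge hk⟩)
  let p₁ := pullback.fst (CohB1.ProjSpace.toSpec n (ULift.{u} ℤ)) (specULiftZIsTerminal.from Y)
  let p₂ := CohB1.ProjSpaceOver.toBase n Y
  have hpre' : ∀ k, (i ≫ p₁) ⁻¹ᵁ Dk n k = ι ⁻¹ᵁ W k := fun k => (hpre k).trans (hs' k)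
  have hrat : ∀ k l, (i ≫ p₁).appLE (Dk n k) (ι ⁻¹ᵁ W k) (hpre' k).ge (ratio (hX n k) (hX n l)) =
      ι.app (W k) (c k l) := fun k l =>
    ratio_eq ι hι (σ k) (σ l) (c k l) (hc k l) (i ≫ p₁) (hpre' k) _ (hcoef k l)
  -- the fibre
  have hπr : Set.range π ⊆ Set.range ι := by
    rw [Scheme.Opens.range_ι]
    rintro _ ⟨z, rfl⟩
    change f (π z) ∈ V₁
    have h : π z ∈ f ⁻¹' {y} := f.range_fiberι y ▸ Set.mem_range_self z
    rw [show f (π z) = y from h]
    exact hy₁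
  let α : f.fiber y ⟶ X' := IsOpenImmersion.lift ι π hπr
  have hα : α ≫ ι = π := IsOpenImmersion.lift_fac _ _ _
  have hαr : α ≫ i ≫ p₁ = r₀ := by
    have hp : ∀ k, (α ≫ i ≫ p₁) ⁻¹ᵁ Dk n k = π ⁻¹ᵁ W k := fun k => by
      rw [Scheme.Hom.comp_preimage, hpre' k, ← Scheme.Hom.comp_preimage, hα]
    refine hom_ext_ratio (fun k => (hp k).trans (hWπ k).symm) fun k l => ?_
    have e1 : (α ≫ i ≫ p₁).appLE (Dk n k) (π ⁻¹ᵁ W k) (hp k).ge (ratio (hX n k) (hX n l)) =
        r₀.appLE (Dk n k) (π ⁻¹ᵁ W k) (hWπ k).ge (ratio (hX n k) (hX n l)) := by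
      have hαW : π ⁻¹ᵁ W k ≤ α ⁻¹ᵁ (ι ⁻¹ᵁ W k) := by
        rw [← Scheme.Hom.comp_preimage, hα]
      rw [hrat₀ k l, ← Scheme.Hom.appLE_comp_appLE α (i ≫ p₁) (Dk n k) (ι ⁻¹ᵁ W k) _ (hpre' k).ge hαW,
        ConcreteCategory.comp_apply, hrat k l, Scheme.Hom.app_eq_appLE ι, Scheme.Hom.app_eq_appLE π]
      refine (ConcreteCategory.congr_hom (Scheme.Hom.appLE_comp_appLE α ι (W k) (ι ⁻¹ᵁ W k) _
        le_rfl hαW) (c k l)).trans ?_
      congr 2
      simp only [hα]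
    have e2 := congrArg (rres (hp k).le) e1
    rw [← Scheme.Hom.appLE_map (α ≫ i ≫ p₁) (hp k).ge (homOfLE (hp k).le).op,
      ← Scheme.Hom.appLE_map r₀ (hWπ k).ge (homOfLE (hp k).le).op]
    exact e2
  haveI : IsProper p₂ := TwistFlat.isProper_toBase n Y
  haveI : LocallyOfFiniteType (ι ≫ f) := inferInstance
  haveI : LocallyOfFiniteType (i ≫ p₂) := by rw [show i ≫ p₂ = ι ≫ f from hi]; infer_instance
  haveI : LocallyOfFiniteType i := locallyOfFiniteType_of_comp i p₂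
  let q := f.fiberToSpecResidueField y
  have H1 : IsPullback α q (i ≫ p₂) (Y.fromSpecResidueField y) := by
    rw [show i ≫ p₂ = ι ≫ f from hi]
    have := (isPullback_of_factor hα).paste_vert
      (IsPullback.of_hasPullback f (Y.fromSpecResidueField y))
    rwa [Category.id_comp] at this
  let Py := p₂.fiber y
  let ψ : f.fiber y ⟶ Py := pullback.lift (α ≫ i) q (by rw [Category.assoc]; exact H1.w)
  have H2 : IsPullback α ψ i (p₂.fiberι y) := by
    refine IsPullback.of_bot (v₂₁ := p₂.fiberToSpecResidueField y) (v₂₂ := p₂)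
      (h₃₁ := Y.fromSpecResidueField y) ?_ ?_ (IsPullback.of_hasPullback p₂ _)
    · rw [show ψ ≫ p₂.fiberToSpecResidueField y = q from pullback.lift_snd _ _ _]
      exact H1
    · exact (pullback.lift_fst _ _ _).symm
  have hψ : IsClosedImmersion ψ := by
    let γ : Py ⟶ CohB1.ProjSpaceOver n (Spec (Y.residueField y)) :=
      pullback.lift (p₂.fiberι y ≫ p₁) (p₂.fiberToSpecResidueField y)
        (specULiftZIsTerminal.hom_ext _ _)
    have hγ : ψ ≫ γ = j := by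
      refine pullback.hom_ext ?_ ?_
      · refine (Category.assoc _ _ _).trans ((congrArg (ψ ≫ ·) (pullback.lift_fst _ _ _)).trans ?_)
        refine ((Category.assoc _ _ _).symm.trans (congrArg (· ≫ p₁) (pullback.lift_fst _ _ _))).trans ?_
        exact (Category.assoc _ _ _).trans hαr
      · refine (Category.assoc _ _ _).trans ((congrArg (ψ ≫ ·) (pullback.lift_snd _ _ _)).trans ?_)
        exact (pullback.lift_snd _ _ _).trans hjq.symm
    haveI : IsSeparated (γ ≫ pullback.snd _ _) := by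
      rw [show γ ≫ pullback.snd _ _ = p₂.fiberToSpecResidueField y from pullback.lift_snd _ _ _]
      exact MorphismProperty.pullback_snd (P := @IsSeparated) _ _ inferInstance
    haveI : IsSeparated γ := IsSeparated.of_comp γ (pullback.snd _ _)
    haveI : IsClosedImmersion (ψ ≫ γ) := by rw [hγ]; exact hj
    exact IsClosedImmersion.of_comp ψ γ
  have hfib : ∀ z, p₂ z = y → IsClosedImmersion (i.fiberToSpecResidueField z) := by
    intro z hz
    refine FlatMor.FibMap.fiber_of_baseChange @IsClosedImmersion i p₂ z ?_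
    have hψ' : IsClosedImmersion (pullback.snd i (p₂.fiberι y)) := by
      rw [← H2.isoPullback_inv_snd]
      exact MorphismProperty.comp_mem _ _ _ inferInstance hψ
    subst hz
    exact hψ'
  -- closed immersion over a neighbourhood
  have hq : IsProper ((i ≫ p₂) ∣_ V₁) := by
    rw [show i ≫ p₂ = ι ≫ f from hi, morphismRestrict_comp]
    haveI : Surjective (ι ∣_ (f ⁻¹ᵁ V₁)) :=
      ⟨fun z => ⟨⟨⟨z.1, z.2⟩, z.2⟩, Subtype.ext (morphismRestrict_base_coe _ _ _)⟩⟩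
    haveI : IsIso (ι ∣_ (f ⁻¹ᵁ V₁)) :=
      (isIso_iff_isOpenImmersion_and_surjective _).mpr ⟨inferInstance, inferInstance⟩
    exact MorphismProperty.comp_mem _ _ _ inferInstance (IsZariskiLocalAtTarget.restrict ‹IsProper f› V₁)
  obtain ⟨V₂, hV₂, hy₂, hV₂₁, hclosed⟩ := exists_nhd_isClosedImmersion i p₂ hy₁ hq hfib
  refine ⟨V₂, hy₂, hV₂, fun x hx => ?_⟩
  obtain ⟨k, hk⟩ := hcov₁ x (hV₂₁ hx)
  have hle : f ⁻¹ᵁ V₂ ≤ f ⁻¹ᵁ V₀ := f.preimage_mono (hV₂₁.trans inf_le_left)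
  let e : Γ((Scheme.Modules.pushforward f).obj L, V₂) := res L hle (σ k)
  refine ⟨e, ?_⟩
  have hg : gLoc (𝟙 ((Scheme.Modules.pushforward f).obj L)) V₂ e = W k ⊓ f ⁻¹ᵁ V₂ :=
    (show _ = locus (res L hle (σ k)) from rfl).trans (locus_res hle (σ k))
  set G := W k ⊓ f ⁻¹ᵁ V₂ with hGdef
  rw [hg]
  refine ⟨⟨hk, hx⟩, ?_⟩
  let O := p₁ ⁻¹ᵁ Dk n k ⊓ p₂ ⁻¹ᵁ V₂
  have hGi : ι ⁻¹ᵁ G = i ⁻¹ᵁ O := by
    change ι ⁻¹ᵁ W k ⊓ (ι ≫ f) ⁻¹ᵁ V₂ = (i ≫ p₁) ⁻¹ᵁ Dk n k ⊓ (i ≫ p₂) ⁻¹ᵁ V₂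
    rw [hpre' k, show i ≫ p₂ = ι ≫ f from hi]
  haveI : IsClosedImmersion (i ∣_ O) :=
    MorphismProperty.of_isPullback (S2803.morphismRestrict_isPullback_of_le i inf_le_right) hclosed
  haveI : IsAffine (Spec (CommRingCat.of (ULift.{u} ℤ))) := inferInstance
  obtain ⟨haff, hclo⟩ := box (CohB1.ProjSpace.toSpec n (ULift.{u} ℤ)) (specULiftZIsTerminal.from Y) i
    (V₁ := Dk n k) (V₂ := V₂) (Proj.isAffineOpen_basicOpen _ _ (hX n k) one_pos) hV₂ hGi ‹_›
  have hGle : G ≤ ι.opensRange := by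
    rw [Scheme.Opens.opensRange_ι]
    exact inf_le_right.trans (f.preimage_mono hV₂₁)
  have himg : ι ''ᵁ (ι ⁻¹ᵁ G) = G := by
    rw [ι.image_preimage_eq_opensRange_inf, inf_eq_right.mpr hGle]
  refine ⟨himg ▸ haff.image_of_isOpenImmersion ι, ?_⟩
  haveI : IsIso (ι.app G) := ι.isIso_app G hGle
  have hbij := ConcreteCategory.bijective_of_isIso (ι.app G)
  set T := coefRing (𝟙 ((Scheme.Modules.pushforward f).obj L)) V₂ e G
  have hG₂ : G ≤ f ⁻¹ᵁ V₂ := inf_le_right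
  have key : ∀ b, b ∈ T.map (ι.app G).hom := fun b => by
    refine (Subring.closure_le.mpr ?_ : _ ≤ T.map (ι.app G).hom) (hclo.ge (Subring.mem_top b))
    rintro _ (⟨v, rfl⟩ | ⟨v, rfl⟩)
    · refine range_le_of_ratio k ((i ≫ p₁).appLE (Dk n k) (ι ⁻¹ᵁ G) _).hom _ (fun l => ?_) v
      refine ⟨rres inf_le_left (c k l), ?_, ?_⟩
      · refine coef_mem_coefRing (z := res L hle (σ l)) hG₂ ?_
        change res L hG₂ (res L hle (σ l)) = _ • res L hG₂ (res L hle (σ k))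
        have h := congrArg (res L (inf_le_left : G ≤ W k)) (hc k l)
        rw [res_smul, res_res, res_res] at h
        rw [res_res, res_res]
        exact h
      · rw [app_rres, ← hrat k l]
        exact (ConcreteCategory.congr_hom (Scheme.Hom.appLE_map (i ≫ p₁) (hpre' k).ge
          (homOfLE (ι.preimage_mono (inf_le_left : G ≤ W k))).op) _)
    · refine ⟨f.appLE V₂ G hG₂ v, appLE_mem_coefRing hG₂ v, ?_⟩
      rw [Scheme.Hom.app_eq_appLE]
      refine (ConcreteCategory.congr_hom (Scheme.Hom.appLE_comp_appLE ι f V₂ G (ι ⁻¹ᵁ G)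
        hG₂ le_rfl) v).trans ?_
      exact appLE_congr_hom hi.symm _ _ v
  refine top_le_iff.mp fun a _ => ?_
  obtain ⟨a', ha', he⟩ := key (ι.app G a)
  exact hbij.1 he ▸ ha'

end Groth.Agent.FibVA
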