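import Groth.Agent.CBC.Deg0Thms
import Groth.Agent.RankLocus.Basic
import Groth.Agent.Cube.Seesaw
import Groth.Agent.FlatMor.LineValuation
import Groth.Agent.ProjTwist.Sect

/-!
# Lifting sections of an invertible module from a fibre without `H¹` to a neighbourhood
-/

set_option autoImplicit false

universe u

open CategoryTheory CategoryTheory.Limits AlgebraicGeometry TopologicalSpace Opposite

noncomputable section

namespace Groth.Agent.FibVA

open Groth.Agent.QCoh

variable {X Y : Scheme.{u}}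

lemma le_fiberι_preimage (f : X ⟶ Y) {y : Y} {V : Y.Opens} (hy : y ∈ V) :
    (⊤ : (f.fiber y).Opens) ≤ f.fiberι y ⁻¹ᵁ (f ⁻¹ᵁ V) := fun z _ => by
  show f (f.fiberι y z) ∈ V
  have h : f.fiberι y z ∈ f ⁻¹' {y} := f.range_fiberι y ▸ Set.mem_range_self z
  rw [show f (f.fiberι y z) = y from h]; exact hy

/-- Without `H¹` on the fibre, sections over the fibre lift to a neighbourhood. -/
theorem exists_lift (f : X ⟶ Y) [IsProper f] [Flat f] [LocallyOfFinitePresentation f] {L : X.Modules}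
    (hL : PicF.IsInvertible L) (y : Y)
    (h1 : Subsingleton (Coh.HH (f.fiber y) ((Scheme.Modules.pullback (f.fiberι y)).obj L) 1))
    {κ : Type*} [Finite κ] (s : κ → Γ((Scheme.Modules.pullback (f.fiberι y)).obj L, ⊤))
    {W : Y.Opens} (hyW : y ∈ W) :
    ∃ (V : Y.Opens) (hy : y ∈ V) (σ : κ → Γ(L, f ⁻¹ᵁ V)), IsAffineOpen V ∧ V ≤ W ∧
      ∀ k, LimTop.unitSec (f.fiberι y) L (le_fiberι_preimage f hy) (σ k) = s k := by
  have hfp : CohB1.IsFP L := (FlatMor.LineValuation.isFP_of_isInvertible hL).2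
  have hfl : FlatMod.IsFlatOver f L := Cube.Seesaw.isFlatOver_of_invertible f hL
  haveI := CBC.isQuasicoherent_of_fp hfp
  haveI : LocallyOfFinitePresentation f := inferInstance
  let U₁ : Y.Opens := ⟨{z | Subsingleton (CohIII.fiberH f L z 1)},
    CBC.isOpen_setOf_subsingleton_fiberH hfp hfl 1⟩
  obtain ⟨N, hyN, hNle, hR⟩ := CBC.exists_rExact_zero_of_fibres hfp hfl (W ⊓ U₁)
    (fun z hz => hz.2) (s := y) ⟨hyW, h1⟩
  let g := Y.fromSpecResidueField y
  let f' := f.fiberToSpecResidueField y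
  have H : IsPullback (f.fiberι y) f' f g := IsPullback.of_hasPullback f g
  haveI hiso : IsIso (CohBC.bc0 f g f' (f.fiberι y) H.w L) :=
    CBC.isIso_bc0_of_rExact H fun z => ⟨N, by rw [Scheme.fromSpecResidueField_apply]; exact hyN, hR⟩
  let B := CohBC.bc0 f g f' (f.fiberι y) H.w L
  let R := (Scheme.Modules.pushforward f).obj L
  haveI : R.IsQuasicoherent := QCoh.isQuasicoherent_pushforward f L
  have hle : ⊤ ≤ g ⁻¹ᵁ N.V := CBC.fromSpecResidueField_le y hyN
  have h' : f' ⁻¹ᵁ ⊤ ≤ f.fiberι y ⁻¹ᵁ (f ⁻¹ᵁ N.V) := le_fiberι_preimage f hyN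
  have hspan := RankLocus.span_unitSec g R N.hV (isAffineOpen_top _) hle
    (id : Γ(R, N.V) → Γ(R, N.V)) (by rw [Set.range_id, Submodule.span_univ])
  let Bt : Γ((Scheme.Modules.pullback g).obj R, ⊤) →+
      Γ((Scheme.Modules.pullback (f.fiberι y)).obj L, ⊤) := (B.app ⊤).hom
  have key : ∀ v ∈ Submodule.span Γ(Spec (Y.residueField y), ⊤)
      (Set.range fun m : Γ(R, N.V) => LimTop.unitSec g R hle m),
      ∃ (V : Y.Opens) (hy : y ∈ V) (_ : V ≤ N.V) (σ : Γ(L, f ⁻¹ᵁ V)),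
        Bt v =
          LimTop.unitSec (f.fiberι y) L (le_fiberι_preimage f hy) σ := by
    intro v hv
    induction hv using Submodule.span_induction with
    | mem v hv =>
      obtain ⟨m, rfl⟩ := hv
      exact ⟨N.V, hyN, le_rfl, m, CBC.bc0_app_unitSec L H.w hle h' m⟩
    | zero => exact ⟨N.V, hyN, le_rfl, 0, (map_zero Bt).trans (map_zero _).symm⟩
    | add v w _ _ hv hw =>
      obtain ⟨V, hy, hV, σ, hσ⟩ := hv
      obtain ⟨V', hy', hV', σ', hσ'⟩ := hw
      refine ⟨V ⊓ V', ⟨hy, hy'⟩, inf_le_left.trans hV,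
        res L (f.preimage_mono inf_le_left) σ + res L (f.preimage_mono inf_le_right) σ', ?_⟩
      rw [map_add, map_add, LimTop.unitSec_res, LimTop.unitSec_res, ← hσ, ← hσ']
    | smul c v _ hv =>
      obtain ⟨V, hy, hV, σ, hσ⟩ := hv
      obtain ⟨g₀, hg₀⟩ := Y.residue_surjective y ((Scheme.ΓSpecIso (Y.residueField y)).hom c)
      obtain ⟨O, hyO, a, ha⟩ := Y.presheaf.exists_germ_eq (x := y) g₀
      let V₁ := V ⊓ O
      have hy₁ : y ∈ V₁ := ⟨hy, hyO⟩
      let a₁ : Γ(Y, V₁) := rres inf_le_right a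
      refine ⟨V₁, hy₁, inf_le_left.trans hV, f.app V₁ a₁ • res L (f.preimage_mono inf_le_left) σ, ?_⟩
      rw [LimTop.unitSec_smul, LimTop.unitSec_res, ← hσ]
      have hsm : Bt (c • v) = f'.appLE ⊤ ⊤ le_top c • Bt v := by
        refine (Scheme.Modules.Hom.app_smul B c v).trans ?_
        exact congrArg (fun b : Γ(f.fiber y, ⊤) => b • Bt v)
          (ConcreteCategory.congr_hom (Scheme.Hom.app_eq_appLE f' (U := ⊤)) c)
      refine hsm.trans (congrArg (fun b : Γ(f.fiber y, ⊤) => b • Bt v) ?_)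
      have hev : g.appLE V₁ ⊤ (CBC.fromSpecResidueField_le y hy₁) a₁ = c := by
        rw [CBC.fromSpecResidueField_appLE]
        change (Scheme.ΓSpecIso _).inv (Y.evaluation V₁ y hy₁ a₁) = c
        have : Y.evaluation V₁ y hy₁ a₁ = (Scheme.ΓSpecIso (Y.residueField y)).hom c := by
          rw [← hg₀, ← ha]
          change Y.residue y (Y.presheaf.germ V₁ y hy₁ (rres inf_le_right a)) = _
          exact congrArg _ (Y.presheaf.germ_res_apply _ y hy₁ a)
        rw [this]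
        exact ConcreteCategory.congr_hom (Scheme.ΓSpecIso (Y.residueField y)).hom_inv_id c
      rw [← hev]
      have e1 := ConcreteCategory.congr_hom (Scheme.Hom.appLE_comp_appLE f' g V₁ ⊤ ⊤
        (CBC.fromSpecResidueField_le y hy₁) le_top) a₁
      have e2 := ConcreteCategory.congr_hom (Scheme.Hom.appLE_comp_appLE (f.fiberι y) f V₁ (f ⁻¹ᵁ V₁) ⊤
        le_rfl (le_fiberι_preimage f hy₁)) a₁
      simp only [CommRingCat.comp_apply] at e1 e2
      rw [← Scheme.Hom.appLE_eq_app]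
      refine e1.trans (Eq.trans ?_ e2.symm)
      congr 2
      simp only [show f' ≫ g = f.fiberι y ≫ f from H.w.symm]
  have hlift : ∀ k, ∃ (V : Y.Opens) (hy : y ∈ V) (_ : V ≤ N.V) (σ : Γ(L, f ⁻¹ᵁ V)),
      s k = LimTop.unitSec (f.fiberι y) L (le_fiberι_preimage f hy) σ := by
    intro k
    obtain ⟨v, hv⟩ := (ConcreteCategory.bijective_of_isIso (B.app ⊤)).2
      (show Γ((Scheme.Modules.pushforward f').obj ((Scheme.Modules.pullback (f.fiberι y)).obj L), ⊤)
        from s k)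
    obtain ⟨V, hy, hV, σ, hσ⟩ := key v (hspan ▸ Submodule.mem_top)
    exact ⟨V, hy, hV, σ, hv.symm.trans hσ⟩
  choose Vk hyk hVk σk hσk using hlift
  have hopen : IsOpen ((N.V : Set Y) ∩ ⋂ k, (Vk k : Set Y)) :=
    N.V.2.inter (isOpen_iInter_of_finite fun k => (Vk k).2)
  obtain ⟨_, ⟨V, hVaff, rfl⟩, hy, hVle⟩ := Y.isBasis_affineOpens.exists_subset_of_mem_open
    (show y ∈ (N.V : Set Y) ∩ ⋂ k, (Vk k : Set Y) from ⟨hyN, Set.mem_iInter.2 hyk⟩) hopen
  refine ⟨V, hy, fun k => res L (f.preimage_mono fun z hz => Set.mem_iInter.1 (hVle hz).2 k) (σk k),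
    hVaff, fun z hz => (hNle (hVle hz).1).1, fun k => ?_⟩
  rw [LimTop.unitSec_res]
  exact (hσk k).symm

end Groth.Agent.FibVA
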