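import Groth.Agent.Omega.SheafBC
import Groth.Agent.AbSch51.InvDiff
import Groth.Agent.S5019
import Groth.Agent.TanSmooth.Scheme
import Groth.Agent.FFCurve.OmegaBC
import Groth.Agent.PicThickTriv.Main

/-!
# Differentials of a family of smooth curves
-/

set_option autoImplicit false
set_option linter.style.haveILetI false

universe u

open CategoryTheory CategoryTheory.Limits AlgebraicGeometry TopologicalSpace

noncomputable section

namespace Groth.Agent.FibVA

open Groth.Agent.PullStalk.Sky Groth.Agent.PullStalk.Exact Groth.Agent.Props.GenLocus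

/-- An epimorphism between invertible modules is an isomorphism. -/
theorem isIso_of_epi_invertible {Y : Scheme.{u}} {L L' : Y.Modules} (hL : PicF.IsInvertible L)
    (hL' : PicF.IsInvertible L') (s : L ⟶ L') [Epi s] : IsIso s := by
  refine Omega.Stalks.isIso_of_stalk fun x => ⟨?_, stalk_surjective s x⟩
  have gen : ∀ {N : Y.Modules}, PicF.IsInvertible N →
      Nonempty ((Y.presheaf.stalk x) ≃ₗ[Y.presheaf.stalk x] N.presheaf.stalk x) := fun {N} hN => by
    obtain ⟨U, e, hx, he⟩ := exists_isGen hN x
    exact ⟨LinearEquiv.ofBijective _ (PicLaw.bijective_toSpanSingleton_germ he x hx)⟩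
  obtain ⟨E₀⟩ := gen hL
  obtain ⟨E⟩ := gen hL'
  let g : Y.presheaf.stalk x →ₗ[Y.presheaf.stalk x] Y.presheaf.stalk x :=
    E.symm.toLinearMap ∘ₗ stalkLin s x ∘ₗ E₀.toLinearMap
  have hs : Function.Surjective g := E.symm.surjective.comp ((stalk_surjective s x).comp E₀.surjective)
  have hg : Function.Injective g := OrzechProperty.injective_of_surjective_endomorphism g hs
  intro a b h
  obtain ⟨a', rfl⟩ := E₀.surjective a
  obtain ⟨b', rfl⟩ := E₀.surjective b
  exact congrArg E₀ (hg (congrArg E.symm h))

variable {X S : Scheme.{u}} (f : X ⟶ S) [IsProper f] [Smooth f] [GeometricallyConnected f]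

theorem isInvertible_omega (hdim : ∀ s : S, topologicalKrullDim ↥(f.fiber s) = 1) :
    PicF.IsInvertible (Omega.sheaf f) := by
  intro x
  obtain ⟨U, m, hxU, hiso, hm⟩ := S5019.result f (Omega.sheaf f) (OmegaSh.dOmega f)
    (Omega.DiagUniv.isUniversal_dOmega f) x
  let s := f x
  letI : (f.fiber s).Over (Spec (CommRingCat.of (S.residueField s))) := ⟨f.fiberToSpecResidueField s⟩
  haveI : IsProper (f.fiber s ↘ Spec (CommRingCat.of (S.residueField s))) :=
    MorphismProperty.pullback_snd (P := @IsProper) f _ ‹_›
  haveI : Smooth (f.fiber s ↘ Spec (CommRingCat.of (S.residueField s))) :=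
    MorphismProperty.pullback_snd (P := @Smooth) f _ ‹_›
  haveI : GeometricallyConnected (f.fiber s ↘ Spec (CommRingCat.of (S.residueField s))) :=
    inferInstanceAs (GeometricallyConnected (f.fiberToSpecResidueField s))
  haveI := CurveCoh.isIntegral_of_smooth (S.residueField s) (f.fiber s)
  rw [FlatMor.fibreDimAt, TanSmooth.localDim_of_irreducible (f.fiber s ↘ Spec (CommRingCat.of (S.residueField s))),
    hdim] at hm
  obtain rfl : m = 1 := by exact_mod_cast hm.symm
  obtain ⟨e⟩ := hiso
  exact ⟨U, hxU, ⟨e ≪≫ coproductUniqueIso fun _ : Fin 1 => Coh.structureModule (U : Scheme.{u})⟩⟩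

/-- The differentials of a fibre are the restriction of the differentials. -/
theorem omega_fibre (hdim : ∀ s : S, topologicalKrullDim ↥(f.fiber s) = 1) (s : S) :
    Nonempty ((Scheme.Modules.pullback (f.fiberι s)).obj (Omega.sheaf f) ≅
      Omega.sheaf (f.fiberToSpecResidueField s)) := by
  let q := f.fiberι s
  let f' := f.fiberToSpecResidueField s
  let a := S.fromSpecResidueField s
  have h : IsPullback q f' f a := IsPullback.of_hasPullback _ _
  haveI : IsProper f' := MorphismProperty.of_isPullback h ‹_›
  letI : (f.fiber s).Over (Spec (CommRingCat.of (S.residueField s))) := ⟨f'⟩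
  haveI : IsProper (f.fiber s ↘ Spec (CommRingCat.of (S.residueField s))) :=
    MorphismProperty.pullback_snd (P := @IsProper) f _ ‹_›
  haveI : Smooth (f.fiber s ↘ Spec (CommRingCat.of (S.residueField s))) :=
    MorphismProperty.pullback_snd (P := @Smooth) f _ ‹_›
  haveI : GeometricallyConnected (f.fiber s ↘ Spec (CommRingCat.of (S.residueField s))) :=
    inferInstanceAs (GeometricallyConnected (f.fiberToSpecResidueField s))
  have hd := (LimLib.isPullback_diagonal h).flip
  obtain ⟨φ, hφ, -⟩ := Omega.ConormalMap.existsUnique_conormalMap (i := pullback.diagonal f')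
    (i' := pullback.diagonal f) (g := pullback.map f' f' f f q q a h.w.symm h.w.symm) (gZ := q) hd.w.symm
  exact ⟨@asIso _ _ _ _ φ (@isIso_of_epi_invertible _ _ _
    (PicCl.isInvertible_pullback q (isInvertible_omega f hdim))
    (FFCurve.OmegaBC.isInvertible_omega (X := f.fiber s) (S.residueField s) (hdim s)) φ
    (Omega.ConormalBC.epi_and_isIso hd hφ).1)⟩

end Groth.Agent.FibVA
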