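import Groth.Agent.FibVA.Frames

/-!
# Very ampleness over an affine open from frames over it
-/

set_option autoImplicit false

universe u

open CategoryTheory CategoryTheory.Limits AlgebraicGeometry TopologicalSpace Opposite

noncomputable section

namespace Groth.Agent.FibVA

open Groth.Agent.QCoh Groth.Agent.Props.GenLocus Groth.Agent.Props.GenPull Groth.Agent.AmpleLib
open Groth.Agent.ProjBundleLib

/-- Frames over the preimage of an affine open make the restriction very ample. -/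
theorem isRelVeryAmple_restrict {X Y : Scheme.{u}} (f : X ⟶ Y) [QuasiCompact f] [QuasiSeparated f]
    {L : X.Modules} (hL : PicF.IsInvertible L) {V : Y.Opens} (hV : IsAffineOpen V)
    (h : ∀ x, f x ∈ V → ∃ e : Γ((Scheme.Modules.pushforward f).obj L, V),
      x ∈ gLoc (𝟙 ((Scheme.Modules.pushforward f).obj L)) V e ∧
      IsAffineOpen (gLoc (𝟙 ((Scheme.Modules.pushforward f).obj L)) V e) ∧
      coefRing (𝟙 ((Scheme.Modules.pushforward f).obj L)) V e
        (gLoc (𝟙 ((Scheme.Modules.pushforward f).obj L)) V e) = ⊤) :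
    RelProj.IsRelVeryAmple (f ∣_ V) (L.restrict (f ⁻¹ᵁ V).ι) := by
  refine isRelVeryAmple_of_iso
    (((Scheme.Modules.restrictFunctorIsoPullback (f ⁻¹ᵁ V).ι).app L).symm) ?_
  let X' : Scheme.{u} := (f ⁻¹ᵁ V).toScheme
  let ι : X' ⟶ X := (f ⁻¹ᵁ V).ι
  let g : X' ⟶ V.toScheme := f ∣_ V
  have hι : (⊤ : X'.Opens) ≤ ι ⁻¹ᵁ (f ⁻¹ᵁ V) := fun z _ => z.2
  refine isRelVeryAmple_of_frames (g := g) (PicCl.isInvertible_pullback ι hL) fun x => ?_
  obtain ⟨e, hx, haff, htop⟩ := h (ι x) x.2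
  haveI : IsAffine V.toScheme := hV
  let σ : Γ(L, f ⁻¹ᵁ V) := e
  let e' : Γ((Scheme.Modules.pushforward g).obj ((Scheme.Modules.pullback ι).obj L), ⊤) :=
    LimTop.unitSec ι L hι σ
  refine ⟨⊤, isAffineOpen_top _, e', ?_⟩
  set v := 𝟙 ((Scheme.Modules.pushforward g).obj ((Scheme.Modules.pullback ι).obj L))
  have hg : gLoc (𝟙 ((Scheme.Modules.pushforward f).obj L)) V e = locus σ := rfl
  have hg' : gLoc v ⊤ e' = ι ⁻¹ᵁ locus σ :=
    ((show _ = locus (LimTop.unitSec ι L hι σ) from rfl).trans (locus_unitSec ι hL hι σ)).trans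
      (inf_top_eq _)
  rw [hg] at hx haff htop
  rw [hg']
  have hGle : locus σ ≤ ι.opensRange := (locus_le σ).trans (Scheme.Opens.opensRange_ι _).ge
  refine ⟨hx, haff.preimage_of_isOpenImmersion ι hGle, ?_⟩
  haveI : IsIso (ι.app (locus σ)) := ι.isIso_app _ hGle
  have hbij := ConcreteCategory.bijective_of_isIso (ι.app (locus σ))
  have hG' : ι ⁻¹ᵁ locus σ ≤ g ⁻¹ᵁ ⊤ := le_top
  have key : coefRing (𝟙 ((Scheme.Modules.pushforward f).obj L)) V e (locus σ) ≤
      (coefRing v ⊤ e' (ι ⁻¹ᵁ locus σ)).comap (ι.app (locus σ)).hom := by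
    refine coefRing_le (locus_le σ) (fun a => ?_) fun z c hc => ?_
    · refine Subring.mem_comap.mpr ?_
      have hVι : (⊤ : V.toScheme.Opens) ≤ V.ι ⁻¹ᵁ V := fun w _ => w.2
      have e1 := ConcreteCategory.congr_hom (Scheme.Hom.appLE_comp_appLE ι f V (locus σ)
        (ι ⁻¹ᵁ locus σ) (locus_le σ) le_rfl) a
      have e2 := ConcreteCategory.congr_hom (Scheme.Hom.appLE_comp_appLE g V.ι V ⊤
        (ι ⁻¹ᵁ locus σ) hVι le_top) a
      have h3 : ι.app (locus σ) (f.appLE V (locus σ) (locus_le σ) a) =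
          g.appLE ⊤ (ι ⁻¹ᵁ locus σ) le_top (V.ι.appLE V ⊤ hVι a) := by
        rw [Scheme.Hom.app_eq_appLE]
        refine e1.trans ((appLE_congr_hom (morphismRestrict_ι f V).symm _ _ a).trans e2.symm)
      change ι.app (locus σ) (f.appLE V (locus σ) (locus_le σ) a) ∈ _
      rw [h3]
      exact appLE_mem_coefRing hG' _
    · refine Subring.mem_comap.mpr ?_
      let τ : Γ(L, f ⁻¹ᵁ V) := z
      refine coef_mem_coefRing (z := LimTop.unitSec ι L hι τ) hG' ?_
      change res _ hG' (LimTop.unitSec ι L hι τ) = ι.app (locus σ) c • res _ hG' (LimTop.unitSec ι L hι σ)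
      have h1 := congrArg (LimTop.unitSec ι L (le_refl (ι ⁻¹ᵁ locus σ))) (show
        res L (locus_le σ) τ = c • res L (locus_le σ) σ from hc)
      rw [LimTop.unitSec_smul, LimTop.unitSec_res, LimTop.unitSec_res, Scheme.Hom.appLE_eq_app] at h1
      exact (LimTop.res_unitSec ι L hι hG' τ).trans
        (h1.trans (congrArg (_ • ·) (LimTop.res_unitSec ι L hι hG' σ).symm))
  refine top_le_iff.mp fun b _ => ?_
  obtain ⟨a, rfl⟩ := hbij.2 b
  exact key (htop.ge (Subring.mem_top a))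

end Groth.Agent.FibVA
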